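import Mathlib
import Cfsg.Statements.S1537
import Cfsg.Statements.S1542
import Cfsg.Agent.Lib.Helper4.PF12.FrobDade
import Cfsg.Agent.Lib.Helper4.CNFit

/-!
# S1542 (Peterfalvi (12.3)): the core (helper4)

`s1542_core` is statement S1542 with the earlier statement S1537 (the Dade hypothesis for
`A(L)`, `L`, `R`) as its only hypothesis (type only).
-/

set_option autoImplicit false

namespace Cfsg.Agent.Lib.Helper4.PF12

open Cfsg

universe u

/-- Statement S1542 from S1537. -/
theorem s1542_core {G : Type u} [Group G] [Fintype G] (hG : Cfsg.IsMinSimpleOddOrder G)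
    (h1537 : type_of% (@Cfsg.CfsgFrozen.S1537 G _ _ hG))
    (L : Subgroup G) [Fintype L] (hL : IsCoatom L) (hI : Cfsg.IsOfTypeI L)
    (hfrob : ∀ x ∈ Cfsg.fittingHallOf L, x ≠ 1 →
      L ⊓ Subgroup.centralizer ({x} : Set G) ≤ Cfsg.fittingHallOf L) :
    (∀ χ ∈ Cfsg.inducedIrrAbove (Cfsg.fittingHall L) ⊥, Cfsg.IsIrrCharacter L χ) ∧
      Cfsg.IsCoherent (Cfsg.inducedIrrAbove (Cfsg.fittingHall L) ⊥) {1}ᶜ
        (Cfsg.dadeIsometry (Cfsg.typeA L) L (Cfsg.supportR L)) := by
  classical
  have hD := (h1537 L hL (typeA L) (Or.inr (Or.inl rfl))).2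
  obtain ⟨⟨-, hodd, hF1, -, U, hU1, hc, -, -⟩, hcases⟩ := id hI
  have hHL : fittingHallOf L ≤ L := Subgroup.map_subtype_le _
  have hmemH : ∀ k : L, k ∈ fittingHall L → (k : G) ∈ fittingHallOf L := fun k hk =>
    Subgroup.mem_map_of_mem L.subtype hk
  have hmemH' : ∀ k : L, (k : G) ∈ fittingHallOf L → k ∈ fittingHall L := by
    intro k hk
    obtain ⟨y, hy, hyk⟩ := Subgroup.mem_map.mp hk
    have : y = k := Subtype.ext hyk
    rw [← this]; exact hy
  have hHne : fittingHallOf L ≠ ⊥ := by
    intro h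
    apply hF1
    rw [eq_bot_iff]
    intro k hk
    have h1 := hmemH k hk
    rw [h, Subgroup.mem_bot] at h1
    rw [Subgroup.mem_bot]
    exact Subtype.ext h1
  refine frob_dade_coherent L (fittingHall L) U hodd hF1 hU1 hc
    (Cfsg.Agent.Lib.Helper4.CN.fittingHall_nilpotent L) ?_ (typeA L) ?_ (supportR L) hD ?_ ?_ ?_
  · -- fixed-point-freeness
    intro u hu hu1 k hk huk
    by_contra hk1
    have h2 : (u : G) ∈ fittingHallOf L := by
      refine hfrob (k : G) (hmemH k hk) (fun h => hk1 (Subtype.ext h))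
        (Subgroup.mem_inf.mpr ⟨u.2, ?_⟩)
      rw [Subgroup.mem_centralizer_iff]
      intro h hh
      rw [Set.mem_singleton_iff.mp hh]
      exact (congrArg Subtype.val huk).symm
    have h3 : u ∈ fittingHall L ⊓ U := ⟨hmemH' u h2, hu⟩
    rw [hc.disjoint.eq_bot, Subgroup.mem_bot] at h3
    exact hu1 h3
  · -- `A(L)` is the set of non-identity elements of the kernel
    unfold typeA
    rw [if_pos hI]
    ext a
    constructor
    · rintro ⟨haL, ha1, x, hx, hx1, hax⟩
      refine ⟨hfrob x hx hx1 (Subgroup.mem_inf.mpr ⟨haL, ?_⟩), ha1⟩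
      rw [Subgroup.mem_centralizer_iff]
      intro h hh
      rw [Set.mem_singleton_iff.mp hh]
      exact hax.symm
    · rintro ⟨ha, ha1⟩
      exact ⟨hHL ha, ha1, a, ha, ha1, rfl⟩
  · -- supports
    intro a ha
    unfold supportR
    rw [dif_neg]
    intro h
    exact h.1 ha
  · -- the normaliser of the kernel
    have hle : L ≤ Subgroup.normalizer ((fittingHallOf L : Subgroup G) : Set G) := by
      intro x hx
      rw [Subgroup.mem_normalizer_iff]
      intro h
      constructor
      · intro hh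
        have h1 := (fittingHall_normal L).conj_mem ⟨h, hHL hh⟩ (hmemH' ⟨h, hHL hh⟩ hh) ⟨x, hx⟩
        exact hmemH _ h1
      · intro hh
        have hhL : h ∈ L := by
          have h1 := hHL hh
          have h2 : h = x⁻¹ * (x * h * x⁻¹) * x := by group
          rw [h2]
          exact L.mul_mem (L.mul_mem (L.inv_mem hx) h1) hx
        have h1 := (fittingHall_normal L).conj_mem ⟨x * h * x⁻¹, hHL hh⟩
          (hmemH' ⟨x * h * x⁻¹, hHL hh⟩ hh) ⟨x, hx⟩⁻¹
        have h2 := hmemH _ h1
        have h3 : ((⟨x, hx⟩⁻¹ * ⟨x * h * x⁻¹, hHL hh⟩ * (⟨x, hx⟩⁻¹)⁻¹ : L) : G) = h := by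
          simp only [Subgroup.coe_mul, Subgroup.coe_inv]
          group
        rw [h3] at h2
        exact h2
    by_contra hne
    have hlt : L < Subgroup.normalizer ((fittingHallOf L : Subgroup G) : Set G) :=
      lt_of_le_of_ne hle (fun h => hne h.symm)
    have htop := hL.2 _ hlt
    have hnorm : (fittingHallOf L).Normal := Subgroup.normalizer_eq_top_iff.mp htop
    haveI := hG.2.1
    rcases hnorm.eq_bot_or_eq_top with h | h
    · exact hHne h
    · apply hL.1
      rw [eq_top_iff, ← h]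
      exact hHL
  · -- the three cases of Type I
    rcases hcases with h | ⟨h, -, -⟩ | ⟨h, -⟩
    · exact Or.inl h
    · refine Or.inr (Or.inl ⟨⟨fun a b => ?_⟩⟩)
      have h1 := h.is_comm.comm ⟨(a : G), hmemH a a.2⟩ ⟨(b : G), hmemH b b.2⟩
      have h2 := congrArg Subtype.val h1
      exact Subtype.ext (Subtype.ext h2)
    · refine Or.inr (Or.inr (fun p hp hpd => h p hp ?_))
      have h1 : Nat.card (fittingHallOf L) = Nat.card (fittingHall L) :=
        (Nat.card_congr ((fittingHall L).equivMapOfInjective L.subtype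
          L.subtype_injective).toEquiv).symm
      rw [h1]
      exact hpd

end Cfsg.Agent.Lib.Helper4.PF12
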